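import Groth.Agent.Lib.FormalH7.OshSurj

/-!
Affine opens of a nilpotent thickening.
-/

set_option autoImplicit false
universe u
open CategoryTheory AlgebraicGeometry TopologicalSpace

namespace Groth.Agent.PushThick28

theorem surjective_of_nil {T Tc : Scheme.{u}} (i : T ⟶ Tc) [IsClosedImmersion i]
    (hnil : ∀ V : Tc.affineOpens, IsNilpotent (i.ker.ideal V)) : Surjective i := by
  refine ⟨fun x => ?_⟩
  obtain ⟨_, ⟨V, hV, rfl⟩, hxV, -⟩ := Tc.isBasis_affineOpens.exists_subset_of_mem_open (Set.mem_univ x) isOpen_univ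
  have hx : x ∈ (i.ker.support : Set Tc) := by
    rw [SetLike.mem_coe, Scheme.IdealSheafData.mem_support_iff_of_mem (U := ⟨V, hV⟩) hxV, Scheme.mem_zeroLocus_iff]
    intro f hf hxf
    obtain ⟨m, hm⟩ := hnil ⟨V, hV⟩
    have hf0 : f ^ (m + 1) = 0 := by
      have h := Ideal.pow_mem_pow hf m
      rw [hm] at h
      rw [pow_succ, show f ^ m = 0 from h, zero_mul]
    rw [← Tc.basicOpen_pow f (Nat.succ_pos m), hf0, Scheme.basicOpen_zero] at hxf
    exact hxf
  rw [Scheme.Hom.support_ker, i.isClosedEmbedding.isClosed_range.closure_eq] at hx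
  exact hx

theorem eqToHom_injective {A B : CommRingCat.{u}} (h : A = B) : Function.Injective (eqToHom h).hom := by
  subst h; exact Function.injective_id

theorem isAffineOpen_of_preimage {T Tc : Scheme.{u}} (i : T ⟶ Tc) [IsClosedImmersion i]
    (hnil : ∀ V : Tc.affineOpens, IsNilpotent (i.ker.ideal V)) {V : Tc.Opens} (hV : IsAffineOpen (i ⁻¹ᵁ V)) :
    IsAffineOpen V := by
  haveI := surjective_of_nil i hnil
  haveI : IsAffine (i ⁻¹ᵁ V).toScheme := hV
  haveI : Surjective (i ∣_ V) := IsZariskiLocalAtTarget.restrict (P := @Surjective) ‹_› V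
  refine FormalH7.isAffine_of_locally_nilpotent (i ∣_ V) fun W => ?_
  obtain ⟨m, hm⟩ := hnil ⟨V.ι ''ᵁ W.1, W.2.image_of_isOpenImmersion V.ι⟩
  refine ⟨m, ?_⟩
  rw [Scheme.Hom.ker_apply] at hm
  rw [Scheme.Hom.ker_apply]
  erw [morphismRestrict_app, CommRingCat.hom_comp]
  simp only [eqToHom_op, eqToHom_map]; erw [RingHom.ker_comp_of_injective _ (eqToHom_injective _)]
  exact hm

theorem isAffineOpen_map {T Tc U : Scheme.{u}} (i : T ⟶ Tc) [IsClosedImmersion i]
    (hnil : ∃ n : ℕ, ∀ V : Tc.affineOpens, i.ker.ideal V ^ n = ⊥)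
    (u : T ⟶ U) [IsAffineHom u] (g : Tc.carrier ⟶ U.carrier) (hg : i.base ≫ g = u.base)
    {V : U.Opens} (hV : IsAffineOpen V) : IsAffineOpen ((Opens.map g).obj V : Tc.Opens) := by
  refine isAffineOpen_of_preimage i (fun W => ⟨_, hnil.choose_spec W⟩) ?_
  have : i ⁻¹ᵁ (Opens.map g).obj V = u ⁻¹ᵁ V := by
    show (Opens.map (i.base ≫ g)).obj V = _
    rw [hg]
  rw [this]
  exact hV.preimage u

end Groth.Agent.PushThick28
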